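import Groth.Agent.WeilLib.AdicUnit
import Groth.Agent.ResExt.Completion
import Groth.Agent.FlatAdic.Basic
import Mathlib.RingTheory.TensorProduct.Quotient
import Mathlib.RingTheory.RingHom.Flat

/-!
# Completions: truncations, and flat maps between completions
-/

universe u

set_option backward.isDefEq.respectTransparency false
set_option linter.style.haveILetI false

open scoped TensorProduct

namespace Groth.Agent.FormalStalk

variable {S T : Type u} [CommRing S] [CommRing T] (I : Ideal S) (K : Ideal T)

theorem evalₐ_algebraMap (n : ℕ) (s : S) :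
    AdicCompletion.evalₐ I n (algebraMap S (AdicCompletion I S) s) = Ideal.Quotient.mk (I ^ n) s :=
  (AdicCompletion.evalₐ I n).commutes s

theorem ker_evalₐ (hI : I.FG) (n : ℕ) :
    RingHom.ker (AdicCompletion.evalₐ I n).toRingHom = (I.map (algebraMap S (AdicCompletion I S))) ^ n := by
  rw [← Ideal.map_pow]
  ext x
  have h1 := SetLike.ext_iff.1 (AdicCompletion.pow_smul_top_eq_ker_eval (I := I) (M := S) (n := n) hI) x
  rw [Ideal.smul_top_eq_map, Submodule.restrictScalars_mem, LinearMap.mem_ker,
    ← AdicCompletion.factor_evalₐ_eq_eval (n := n) I x (by simp)] at h1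
  rw [h1, RingHom.mem_ker]
  refine ⟨fun h => by rw [show AdicCompletion.evalₐ I n x = 0 from h, map_zero], fun h => ?_⟩
  obtain ⟨a, ha⟩ := Ideal.Quotient.mk_surjective (AdicCompletion.evalₐ I n x)
  show AdicCompletion.evalₐ I n x = 0
  rw [← ha, Ideal.Quotient.factor_mk, Ideal.Quotient.eq_zero_iff_mem] at h
  rw [← ha, Ideal.Quotient.eq_zero_iff_mem]
  simpa using h

/-- The truncation isomorphism of a completion. -/
noncomputable def truncEquiv (hI : I.FG) (n : ℕ) :
    AdicCompletion I S ⧸ (I.map (algebraMap S (AdicCompletion I S))) ^ n ≃+* S ⧸ I ^ n :=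
  (Ideal.quotEquivOfEq (ker_evalₐ I hI n).symm).trans
    (RingHom.quotientKerEquivOfSurjective (AdicCompletion.surjective_evalₐ I n))

theorem truncEquiv_mk (hI : I.FG) (n : ℕ) (x : AdicCompletion I S) :
    truncEquiv I hI n (Ideal.Quotient.mk _ x) = AdicCompletion.evalₐ I n x := rfl

theorem isNoetherianRing [IsNoetherianRing S] : IsNoetherianRing (AdicCompletion I S) :=
  ResExt.isNoetherianRing_adicCompletion I (IsNoetherian.noetherian I)

theorem map_le_jacobson (hI : I.FG) :
    I.map (algebraMap S (AdicCompletion I S)) ≤ (⊥ : Ideal (AdicCompletion I S)).jacobson := by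
  haveI : IsAdicComplete I (AdicCompletion I S) := AdicCompletion.isAdicComplete hI
  haveI : IsAdicComplete (I.map (algebraMap S (AdicCompletion I S))) (AdicCompletion I S) :=
    (IsAdicComplete.map_algebraMap_iff _ _).2 inferInstance
  exact IsAdicComplete.le_jacobson_bot _

/-- Flat maps induce flat maps on quotients by extended ideals. -/
theorem flat_quotientMap (g : S →+* T) (hg : g.Flat) (L : Ideal S) (M : Ideal T) (hM : L.map g = M)
    (h : L ≤ M.comap g) : (Ideal.quotientMap M g h).Flat := by
  subst hM
  letI := g.toAlgebra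
  haveI : Module.Flat S T := hg
  haveI : Module.Flat (S ⧸ L) (T ⧸ L.map (algebraMap S T)) :=
    Module.Flat.of_linearEquiv (Algebra.TensorProduct.quotIdealMapEquivQuotTensor T L).toLinearEquiv
  have h1 : (algebraMap (S ⧸ L) (T ⧸ L.map (algebraMap S T))).Flat := RingHom.flat_algebraMap_iff.2 inferInstance
  have h2 : Ideal.quotientMap (L.map g) g h = (algebraMap (S ⧸ L) (T ⧸ L.map (algebraMap S T))) :=
    Ideal.Quotient.ringHom_ext (RingHom.ext fun _ => rfl)
  rw [h2]
  exact h1

/-- A flat map induces a flat map of completions along extended ideals. -/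
theorem flat_complMap [IsNoetherianRing S] [IsNoetherianRing T] (g : S →+* T) (hg : g.Flat)
    (hK : I.map g = K) : (FSch.complMap I K g hK.le).Flat := by
  haveI := isNoetherianRing I
  haveI := isNoetherianRing K
  let φ := FSch.complMap I K g hK.le
  letI := φ.toAlgebra
  let J := I.map (algebraMap S (AdicCompletion I S))
  have hφ : ∀ s, φ (algebraMap S (AdicCompletion I S) s) = algebraMap T (AdicCompletion K T) (g s) := fun s =>
    AdicCompletion.ext_evalₐ fun n => by
      rw [WeilLib.evalₐ_complMap, evalₐ_algebraMap, evalₐ_algebraMap]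
      rfl
  have hJ : J.map φ = K.map (algebraMap T (AdicCompletion K T)) := by
    refine Eq.trans ?_ (congrArg (Ideal.map (algebraMap T (AdicCompletion K T))) hK)
    rw [Ideal.map_map, Ideal.map_map]
    exact congrArg (Ideal.map · I) (RingHom.ext hφ)
  refine FlatAdic.flat_of_flat_truncations J (hJ.le.trans (map_le_jacobson K (IsNoetherian.noetherian K))) fun n _ => ?_
  let c := Algebra.TensorProduct.quotIdealMapEquivQuotTensor (AdicCompletion K T) (J ^ n)
  suffices h : Module.Flat (AdicCompletion I S ⧸ J ^ n)
      (AdicCompletion K T ⧸ (J ^ n).map (algebraMap (AdicCompletion I S) (AdicCompletion K T))) from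
    Module.Flat.of_linearEquiv c.symm.toLinearEquiv
  rw [← RingHom.flat_algebraMap_iff]
  have hmap : (J ^ n).map φ = (K.map (algebraMap T (AdicCompletion K T))) ^ n := by rw [Ideal.map_pow, hJ]
  let e₁ := truncEquiv I (IsNoetherian.noetherian I) n
  let e₂ := (Ideal.quotEquivOfEq hmap).trans (truncEquiv K (IsNoetherian.noetherian K) n)
  have hq : (Ideal.quotientMap (K ^ n) g (FSch.pow_le_comap_pow_of_map_le I K g hK.le n)).Flat :=
    flat_quotientMap g hg (I ^ n) (K ^ n) (by rw [Ideal.map_pow, hK]) _
  have key : algebraMap (AdicCompletion I S ⧸ J ^ n)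
      (AdicCompletion K T ⧸ (J ^ n).map (algebraMap (AdicCompletion I S) (AdicCompletion K T))) =
      e₂.symm.toRingHom.comp ((Ideal.quotientMap (K ^ n) g
        (FSch.pow_le_comap_pow_of_map_le I K g hK.le n)).comp e₁.toRingHom) := by
    refine Ideal.Quotient.ringHom_ext (RingHom.ext fun x => ?_)
    apply e₂.injective
    show e₂ (Ideal.Quotient.mk _ (φ x)) = e₂ (e₂.symm (Ideal.quotientMap (K ^ n) g (FSch.pow_le_comap_pow_of_map_le I K g hK.le n) (e₁ (Ideal.Quotient.mk _ x))))
    rw [RingEquiv.apply_symm_apply]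
    exact WeilLib.evalₐ_complMap I K g hK.le x n
  rw [key]
  exact RingHom.Flat.comp (RingHom.Flat.comp (RingHom.Flat.of_bijective e₁.bijective) hq)
    (RingHom.Flat.of_bijective e₂.symm.bijective)

end Groth.Agent.FormalStalk
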