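import Groth.Agent.FormalStalk.Completion
import Groth.Agent.Hensel.HenselizationNoeth
import Groth.Agent.SepSurj.Basic
import Mathlib.RingTheory.Flat.EquationalCriterion
import Mathlib.RingTheory.Flat.FaithfullyFlat.Algebra

/-!
# The stalk ring of a formal spectrum
-/

universe u

set_option linter.style.haveILetI false
set_option synthInstance.maxHeartbeats 1000000
set_option maxHeartbeats 1000000

namespace Groth.Agent.FormalStalk

variable (A : Type u) [CommRing A] (J : Ideal A) (𝔭 : Ideal A) [𝔭.IsPrime]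

theorem awayToAtPrime_comp (f : A) (hf : f ∉ 𝔭) :
    (FSch.awayToAtPrime A 𝔭 f hf).comp (algebraMap A (Localization.Away f)) =
      algebraMap A (Localization.AtPrime 𝔭) :=
  IsLocalization.Away.lift_comp f _

theorem flat_awayToAtPrime (f : A) (hf : f ∉ 𝔭) : (FSch.awayToAtPrime A 𝔭 f hf).Flat := by
  letI := (FSch.awayToAtPrime A 𝔭 f hf).toAlgebra
  haveI : IsScalarTower A (Localization.Away f) (Localization.AtPrime 𝔭) :=
    IsScalarTower.of_algebraMap_eq' (awayToAtPrime_comp A 𝔭 f hf).symm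
  haveI := IsLocalization.isLocalization_of_submonoid_le (S := Localization.Away f)
    (T := Localization.AtPrime 𝔭) (M := Submonoid.powers f) (N := 𝔭.primeCompl)
    (Submonoid.powers_le.2 (show f ∈ 𝔭.primeCompl from hf))
  exact RingHom.flat_algebraMap_iff.2
    (IsLocalization.flat (Localization.AtPrime 𝔭) (Submonoid.map (algebraMap A (Localization.Away f)) 𝔭.primeCompl))

theorem flat_cAwayToAtPrime [IsNoetherianRing A] (f : A) (hf : f ∉ 𝔭) :
    (FSch.cAwayToAtPrime A J 𝔭 f hf).Flat :=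
  flat_complMap (J.map (algebraMap A (Localization.Away f))) (J.map (algebraMap A (Localization.AtPrime 𝔭)))
    (FSch.awayToAtPrime A 𝔭 f hf) (flat_awayToAtPrime A 𝔭 f hf)
    (by rw [Ideal.map_map, awayToAtPrime_comp])

theorem exists_common {l : ℕ} (x : Fin l → FSch.stalkSubring A J 𝔭) :
    ∃ (f : A) (hf : f ∉ 𝔭), ∀ i, ∃ y, FSch.cAwayToAtPrime A J 𝔭 f hf y = (x i : FSch.cAtPrime A J 𝔭) := by
  choose f hf y hy using fun i => WeilLib.exists_away_of_mem A J 𝔭 (x i).2
  have hF : (∏ i, f i) ∉ 𝔭 := fun h => by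
    obtain ⟨i, -, hi⟩ := (Ideal.IsPrime.prod_mem_iff (p := 𝔭)).1 h
    exact hf i hi
  refine ⟨∏ i, f i, hF, fun i => ?_⟩
  obtain ⟨ψ, h, he, -⟩ := WeilLib.cAway_factor A J 𝔭 (f i) _ (hf i) hF
    (Finset.dvd_prod_of_mem f (Finset.mem_univ i)) (y i)
  exact ⟨_, he.trans (hy i)⟩

theorem range_le (f : A) (hf : f ∉ 𝔭) (y : FSch.cAway A J f) :
    FSch.cAwayToAtPrime A J 𝔭 f hf y ∈ FSch.stalkSubring A J 𝔭 :=
  le_iSup (fun f : {f : A // f ∉ 𝔭} => (FSch.cAwayToAtPrime A J 𝔭 f.1 f.2).range) ⟨f, hf⟩ ⟨y, rfl⟩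

/-- A subring containing, directedly, the images of flat maps has flat ambient ring. -/
theorem flat_of_directed {C : Type u} [CommRing C] (B : Subring C)
    (h : ∀ {l : ℕ} (b : Fin l → B), ∃ (R : Type u) (_ : CommRing R) (φ : R →+* C), φ.Flat ∧ (∀ r, φ r ∈ B) ∧
      ∀ i, ∃ y, φ y = (b i : C)) : Module.Flat B C := by
  refine Module.Flat.iff_forall_isTrivialRelation.2 fun {l b x} hb => ?_
  obtain ⟨R, _, φ, hφ, hB, hy⟩ := h b
  choose y hy using hy
  letI := φ.toAlgebra
  haveI : Module.Flat R C := hφ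
  have hb' : ∑ i, y i • x i = 0 := by
    refine (Finset.sum_congr rfl fun i _ => ?_).trans hb
    show φ (y i) * x i = (b i : C) * x i
    rw [hy i]
  obtain ⟨k, a, z, hx, ha⟩ := Module.Flat.isTrivialRelation_of_sum_smul_eq_zero (R := R) (M := C) hb'
  refine ⟨k, fun i j => ⟨φ (a i j), hB _⟩, z, fun i => hx i, fun j => Subtype.ext ?_⟩
  have h1 := congrArg φ (ha j)
  rw [map_sum, map_zero] at h1
  simp only [AddSubmonoidClass.coe_finsetSum, Subring.coe_mul, ZeroMemClass.coe_zero]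
  refine Eq.trans (Finset.sum_congr rfl fun i _ => ?_) h1
  rw [map_mul, hy i]

theorem flat_stalkSubring [IsNoetherianRing A] :
    Module.Flat (FSch.stalkSubring A J 𝔭) (FSch.cAtPrime A J 𝔭) :=
  flat_of_directed (FSch.stalkSubring A J 𝔭) fun b => by
    obtain ⟨f, hf, hy⟩ := exists_common A J 𝔭 b
    exact ⟨_, inferInstance, FSch.cAwayToAtPrime A J 𝔭 f hf, flat_cAwayToAtPrime A J 𝔭 f hf, range_le A J 𝔭 f hf, hy⟩

theorem faithfullyFlat_stalkSubring [IsNoetherianRing A] (hJ : J ≤ 𝔭) :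
    Module.FaithfullyFlat (FSch.stalkSubring A J 𝔭) (FSch.cAtPrime A J 𝔭) := by
  haveI := WeilLib.isLocalRing_cAtPrime A J 𝔭 hJ
  haveI : IsLocalHom (FSch.stalkSubring A J 𝔭).subtype :=
    ⟨fun x hx => WeilLib.isUnit_of_isUnit_coe A J 𝔭 hJ hx⟩
  haveI : IsLocalRing (FSch.stalkSubring A J 𝔭) := RingHom.domain_isLocalRing (FSch.stalkSubring A J 𝔭).subtype
  haveI : IsLocalHom (algebraMap (FSch.stalkSubring A J 𝔭) (FSch.cAtPrime A J 𝔭)) :=
    inferInstanceAs (IsLocalHom (FSch.stalkSubring A J 𝔭).subtype)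
  haveI := flat_stalkSubring A J 𝔭
  exact Module.FaithfullyFlat.of_flat_of_isLocalHom

theorem isNoetherianRing_stalkSubring [IsNoetherianRing A] (hJ : J ≤ 𝔭) :
    IsNoetherianRing (FSch.stalkSubring A J 𝔭) := by
  haveI := isNoetherianRing (J.map (algebraMap A (Localization.AtPrime 𝔭)))
  haveI := faithfullyFlat_stalkSubring A J 𝔭 hJ
  exact Hensel.isNoetherianRing_of_faithfullyFlat (S := FSch.cAtPrime A J 𝔭)

theorem flat_codRestrict [IsNoetherianRing A] (hJ : J ≤ 𝔭)
    (h : ∀ a : A, ((algebraMap (Localization.AtPrime 𝔭) (FSch.cAtPrime A J 𝔭)).comp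
      (algebraMap A (Localization.AtPrime 𝔭))) a ∈ FSch.stalkSubring A J 𝔭) :
    (((algebraMap (Localization.AtPrime 𝔭) (FSch.cAtPrime A J 𝔭)).comp
      (algebraMap A (Localization.AtPrime 𝔭))).codRestrict (FSch.stalkSubring A J 𝔭) h).Flat := by
  haveI := isNoetherianRing (J.map (algebraMap A (Localization.AtPrime 𝔭)))
  haveI : Module.Flat A (Localization.AtPrime 𝔭) := IsLocalization.flat _ 𝔭.primeCompl
  haveI hflat : Module.Flat A (FSch.cAtPrime A J 𝔭) :=
    ResExt.flat_adicCompletion J (Localization.AtPrime 𝔭)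
  letI := (((algebraMap (Localization.AtPrime 𝔭) (FSch.cAtPrime A J 𝔭)).comp
      (algebraMap A (Localization.AtPrime 𝔭))).codRestrict (FSch.stalkSubring A J 𝔭) h).toAlgebra
  haveI : IsScalarTower A (FSch.stalkSubring A J 𝔭) (FSch.cAtPrime A J 𝔭) :=
    IsScalarTower.of_algebraMap_eq fun a => rfl
  haveI := faithfullyFlat_stalkSubring A J 𝔭 hJ
  exact SepSurj.flat_of_comp_faithfullyFlat (R := A) (S := FSch.stalkSubring A J 𝔭) (T := FSch.cAtPrime A J 𝔭)

theorem mem_stalkSubring_of_localization (z : Localization.AtPrime 𝔭) :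
    algebraMap (Localization.AtPrime 𝔭) (FSch.cAtPrime A J 𝔭) z ∈ FSch.stalkSubring A J 𝔭 := by
  obtain ⟨⟨a, s⟩, hz⟩ := IsLocalization.surj 𝔭.primeCompl z
  let w : Localization.Away (s : A) := IsLocalization.mk' _ a ⟨(s : A), Submonoid.mem_powers _⟩
  have hw : FSch.awayToAtPrime A 𝔭 (s : A) s.2 w = z := by
    refine (IsLocalization.map_units (Localization.AtPrime 𝔭) s).mul_right_cancel ?_
    rw [hz, ← awayToAtPrime_comp A 𝔭 (s : A) s.2, RingHom.comp_apply, RingHom.comp_apply, ← map_mul,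
      IsLocalization.mk'_spec' _ a ⟨(s : A), Submonoid.mem_powers _⟩ |> (mul_comm _ _).trans]
  have hc : FSch.cAwayToAtPrime A J 𝔭 (s : A) s.2 (algebraMap (Localization.Away (s : A)) _ w) =
      algebraMap (Localization.AtPrime 𝔭) (FSch.cAtPrime A J 𝔭) z :=
    AdicCompletion.ext_evalₐ fun n => by
      delta FSch.cAwayToAtPrime
      rw [WeilLib.evalₐ_complMap, evalₐ_algebraMap, evalₐ_algebraMap, Ideal.quotientMap_mk, hw]
  exact hc ▸ range_le A J 𝔭 _ _ _

end Groth.Agent.FormalStalk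

namespace Groth.Agent.FormalStalk

/-- The truncation of the completed localization is the localization of the truncation. -/
theorem exists_ringEquiv_cAway (A : Type u) [CommRing A] [IsNoetherianRing A] (J : Ideal A) (f : A) (n : ℕ) :
    ∃ e : Localization.Away (Ideal.Quotient.mk (J ^ (n + 1)) f) ≃+*
        FSch.cAway A J f ⧸ (J.map (algebraMap A (FSch.cAway A J f))) ^ (n + 1),
      ∀ a : A, e (algebraMap (A ⧸ J ^ (n + 1)) _ (Ideal.Quotient.mk (J ^ (n + 1)) a)) =
        Ideal.Quotient.mk _ (algebraMap A (FSch.cAway A J f) a) := by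
  let L := Localization.Away f
  let If := J.map (algebraMap A L)
  let Q := A ⧸ J ^ (n + 1)
  let N := Localization.Away (Ideal.Quotient.mk (J ^ (n + 1)) f)
  let q : Q →+* L ⧸ If ^ (n + 1) :=
    Ideal.quotientMap (If ^ (n + 1)) (algebraMap A L) (by rw [← Ideal.map_pow]; exact Ideal.le_comap_map)
  have hu : IsUnit (q (Ideal.Quotient.mk (J ^ (n + 1)) f)) :=
    (IsLocalization.Away.algebraMap_isUnit (S := L) f).map (Ideal.Quotient.mk (If ^ (n + 1)))
  let φ : N →+* L ⧸ If ^ (n + 1) := IsLocalization.Away.lift (Ideal.Quotient.mk (J ^ (n + 1)) f) hu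
  have hu' : IsUnit (((algebraMap Q N).comp (Ideal.Quotient.mk (J ^ (n + 1)))) f) :=
    IsLocalization.Away.algebraMap_isUnit (S := N) (Ideal.Quotient.mk (J ^ (n + 1)) f)
  let ψ₀ : L →+* N := IsLocalization.Away.lift f hu'
  have hψ₀ : ψ₀.comp (algebraMap A L) = (algebraMap Q N).comp (Ideal.Quotient.mk (J ^ (n + 1))) :=
    IsLocalization.Away.lift_comp f hu'
  let ψ : L ⧸ If ^ (n + 1) →+* N := Ideal.Quotient.lift (If ^ (n + 1)) ψ₀ (by
    intro x hx
    rw [← Ideal.map_pow] at hx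
    refine (Ideal.map_le_iff_le_comap.2 (fun a ha => ?_) : (J ^ (n + 1)).map (algebraMap A L) ≤ RingHom.ker ψ₀) hx
    show (ψ₀.comp (algebraMap A L)) a = 0
    rw [hψ₀, RingHom.comp_apply, Ideal.Quotient.eq_zero_iff_mem.2 ha, map_zero])
  have hφq : φ.comp (algebraMap Q N) = q := IsLocalization.Away.lift_comp _ hu
  have h1 : φ.comp ψ = RingHom.id _ := Ideal.Quotient.ringHom_ext (IsLocalization.ringHom_ext (Submonoid.powers f) (RingHom.ext fun a => by
    show φ (ψ₀ (algebraMap A L a)) = Ideal.Quotient.mk _ (algebraMap A L a)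
    rw [show ψ₀ (algebraMap A L a) = algebraMap Q N (Ideal.Quotient.mk _ a) from RingHom.congr_fun hψ₀ a]
    exact RingHom.congr_fun hφq _))
  have h2 : ψ.comp φ = RingHom.id _ := by
    refine IsLocalization.ringHom_ext (Submonoid.powers (Ideal.Quotient.mk (J ^ (n + 1)) f)) ?_
    rw [RingHom.comp_assoc, hφq]
    refine Ideal.Quotient.ringHom_ext ?_
    exact hψ₀
  have hJC : J.map (algebraMap A (FSch.cAway A J f)) = If.map (algebraMap L (AdicCompletion If L)) := by
    rw [Ideal.map_map]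
    rfl
  refine ⟨(RingEquiv.ofRingHom φ ψ h1 h2).trans ((truncEquiv If (IsNoetherian.noetherian If) (n + 1)).symm.trans
    (Ideal.quotEquivOfEq (by rw [hJC]))), fun a => ?_⟩
  rw [RingEquiv.trans_apply, RingEquiv.trans_apply, RingEquiv.ofRingHom_apply]
  rw [show φ (algebraMap Q N (Ideal.Quotient.mk _ a)) = q (Ideal.Quotient.mk _ a) from RingHom.congr_fun hφq _,
    show q (Ideal.Quotient.mk _ a) =
      truncEquiv If (IsNoetherian.noetherian If) (n + 1) (Ideal.Quotient.mk _ (algebraMap L (AdicCompletion If L) (algebraMap A L a)))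
      from (evalₐ_algebraMap If (n + 1) (algebraMap A L a)).symm,
    RingEquiv.symm_apply_apply]
  rfl

theorem residueField_bijective (A : Type u) [CommRing A] (J : Ideal A) (𝔭 : Ideal A) [𝔭.IsPrime] (hJ : J ≤ 𝔭)
    [IsLocalRing (FSch.stalkSubring A J 𝔭)] [IsLocalRing (FSch.cAtPrime A J 𝔭)]
    [IsLocalHom (FSch.stalkSubring A J 𝔭).subtype]
    [IsLocalHom (algebraMap (Localization.AtPrime 𝔭) (FSch.cAtPrime A J 𝔭))] :
    Function.Bijective (IsLocalRing.ResidueField.map (FSch.stalkSubring A J 𝔭).subtype) ∧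
      Function.Bijective
        (IsLocalRing.ResidueField.map (algebraMap (Localization.AtPrime 𝔭) (FSch.cAtPrime A J 𝔭))) := by
  let I := J.map (algebraMap A (Localization.AtPrime 𝔭))
  haveI : Nontrivial (Localization.AtPrime 𝔭 ⧸ I ^ 1) := Ideal.Quotient.nontrivial_iff.2 fun h => by
    rw [pow_one] at h
    have := Ideal.map_mono (f := algebraMap A (Localization.AtPrime 𝔭)) hJ
    rw [Localization.AtPrime.map_eq_maximalIdeal] at this
    exact (IsLocalRing.maximalIdeal.isMaximal _).ne_top (top_le_iff.1 (h.ge.trans this))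
  have key : ∀ x : FSch.cAtPrime A J 𝔭, ∃ z : Localization.AtPrime 𝔭,
      IsLocalRing.residue _ (algebraMap (Localization.AtPrime 𝔭) (FSch.cAtPrime A J 𝔭) z) = IsLocalRing.residue _ x := by
    intro x
    obtain ⟨z, hz⟩ := WeilLib.exists_rep I x 1
    refine ⟨z, Ideal.Quotient.eq.2 ((IsLocalRing.mem_maximalIdeal _).2 fun hu => ?_)⟩
    have h1 := hu.map (AdicCompletion.evalₐ I 1)
    rw [map_sub, evalₐ_algebraMap, hz, sub_self] at h1
    exact not_isUnit_zero h1
  refine ⟨⟨RingHom.injective _, fun y => ?_⟩, ⟨RingHom.injective _, fun y => ?_⟩⟩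
  · obtain ⟨x, rfl⟩ := IsLocalRing.residue_surjective y
    obtain ⟨z, hz⟩ := key x
    exact ⟨IsLocalRing.residue _ ⟨_, mem_stalkSubring_of_localization A J 𝔭 z⟩, hz⟩
  · obtain ⟨x, rfl⟩ := IsLocalRing.residue_surjective y
    obtain ⟨z, hz⟩ := key x
    exact ⟨IsLocalRing.residue _ z, hz⟩

end Groth.Agent.FormalStalk
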